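import Cfsg.Agent.H419.EP.Big
import Cfsg.Agent.H909.PpdSz
import Cfsg.Agent.H934.OutB
import Cfsg.Agent.S2126
import Cfsg.Agent.S1162
import Cfsg.Agent.S1163

/-!
# S3499, dimension at least 13, own characteristic: the order bound, Suzuki groups (helper270)

* `le_of_big` : `|Aut(soc)| ^ 4 ≤ |F| ^ C` gives `n (n - 1) / 2 ≤ C + 3`;
* `sz_deg` : a core in characteristic two with socle `Sz(K)`: `|F| ^ s = |K|`, `4 ^ s ≤ n`;
* `own_sz` : Suzuki groups do not occur.
-/

set_option autoImplicit false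
set_option linter.unusedSectionVars false

namespace Cfsg.Agent.H270.EP

open Cfsg Cfsg.Geo Matrix Cfsg.Agent.H915.LD Cfsg.Agent.H419.EP

universe u v

section kill

variable {Q : Type} [Group Q] [Finite Q] {A : Subgroup Q} {Γ : Subgroup (MulAut Q)} {ι : Type} [Fintype ι]
    [DecidableEq ι] {F : Type} [Field F] [Fintype F] {S P : Subgroup (GL ι F)}

theorem finite_socle (P : Subgroup (GL ι F)) : Finite (socle P) := by
  have : Finite (GL ι F) := inferInstance
  have : Finite P := inferInstance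
  exact Quotient.finite _

/-- **The order bound.** -/
theorem le_of_big {c : ℕ} (b : Big A Γ S P) (hUB : Nat.card Q ≤ Nat.card A ^ c) {C : ℕ}
    (hA : Nat.card (MulAut (socle P)) ^ c ≤ Fintype.card F ^ C) :
    Fintype.card ι * (Fintype.card ι - 1) / 2 ≤ C + 3 := by
  have := finite_socle P
  have hF : 2 ≤ Fintype.card F := b.two_le
  have h1 : Nat.card A ^ c ≤ Fintype.card F ^ C := (Nat.pow_le_pow_left b.hasSoc.card_le c).trans hA
  have h2 : Fintype.card F ^ (Fintype.card ι * (Fintype.card ι - 1) / 2) ≤ Fintype.card F ^ (C + 3) := by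
    calc Fintype.card F ^ (Fintype.card ι * (Fintype.card ι - 1) / 2) ≤ 8 * Nat.card Q := b.ord
      _ ≤ Fintype.card F ^ 3 * Fintype.card F ^ C := Nat.mul_le_mul
          (by have := Nat.pow_le_pow_left hF 3; omega) (hUB.trans h1)
      _ = _ := by rw [← pow_add, add_comm]
  exact (Nat.pow_le_pow_iff_right (by omega)).1 h2

/-- `n (n - 1) / 2` is monotone -/
theorem tri_mono {a n : ℕ} (h : a ≤ n) : a * (a - 1) / 2 ≤ n * (n - 1) / 2 :=
  Nat.div_le_div_right (Nat.mul_le_mul h (by omega))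

theorem card_aut {X : Type u} {Y : Type v} [Group X] [Group Y] [Finite Y] [IsSimpleGroup Y]
    (hna : ¬ IsMulCommutative X) (e : X ≃* Y) :
    Nat.card (MulAut X) = Nat.card (Cfsg.Out Y) * Nat.card Y := by
  have h1 : Nat.card (MulAut X) = Nat.card (MulAut Y) := Nat.card_congr (MulAut.congr e).toEquiv
  rw [h1, H934.OutB.card_out_mul]
  intro hc
  apply hna
  refine ⟨⟨fun a b => e.injective ?_⟩⟩
  rw [map_mul, map_mul]
  exact hc.is_comm.comm _ _

end kill

section sz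

open Cfsg.Agent.H861.SzN Cfsg.Agent.H100.Ppd Cfsg.Agent.H905.Md Cfsg.Agent.H909.Ppd

variable {ι : Type} [Fintype ι] [DecidableEq ι] {F : Type u} [Field F] [Finite F] {P : Subgroup (GL ι F)}

/-- **Suzuki groups in characteristic two: the degree.** -/
theorem sz_deg [CharP F 2] (hC : Core P) {K : Type v} [Field K] [Fintype K] {l : ℕ} (hl : 1 ≤ l)
    (hK : Fintype.card K = 2 ^ (2 * l + 1)) (e : Soc P ≃* Cfsg.Lie.Sz K (2 ^ (l + 1))) :
    ∃ s, Odd s ∧ Nat.card F ^ s = 2 ^ (2 * l + 1) ∧ 4 ^ s ≤ Fintype.card ι := by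
  classical
  have : Fact (Nat.Prime 2) := ⟨Nat.prime_two⟩
  obtain ⟨j⟩ := exists_emb F hK
  obtain ⟨φ, S, hφ, hS, hcard, htr⟩ := sz_model hC hl hK e j
  obtain ⟨s, hs, hFs⟩ := card_pow_eq (F := F) 2 (a := 2 * l + 1) (by omega)
    (pow_eq_of_no_subfield hC.absIrred hC.no_subfield 2 _ fun g hg => by
      rw [← hK]
      exact (sz_both hC.absIrred hC.perfect hl hK e hg).1)
  have := Fintype.ofFinite F
  obtain ⟨f, hf0, hf⟩ := FiniteField.card F 2
  have hfs : (f : ℕ) * s = 2 * l + 1 := by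
    rw [Nat.card_eq_fintype_card, hf, ← pow_mul] at hFs
    exact Nat.pow_right_injective le_rfl hFs
  have hper : S.image (sh (f : ℕ)) = S := by
    refine image_eq j hK fun x => ?_
    obtain ⟨g, rfl⟩ := trace_surj hK x
    rw [← htr, ← map_pow, ← hf, FiniteField.pow_card]
  have hle : s ≤ S.card := le_card hS hfs hper
  refine ⟨s, (Nat.odd_mul.1 (show Odd ((f : ℕ) * s) from ⟨l, by rw [hfs]⟩)).2, hFs, ?_⟩
  rw [hcard]
  exact Nat.pow_le_pow_right (by norm_num) hle

end sz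

section ownsz

variable {Q : Type} [Group Q] [Finite Q] {A : Subgroup Q} {Γ : Subgroup (MulAut Q)} {ι : Type} [Fintype ι]
    [DecidableEq ι] {F : Type} [Field F] [Fintype F] {S P : Subgroup (GL ι F)}

/-- `|Aut Sz(K)| ≤ |K| ^ 6` -/
theorem sz_aut {X : Type u} [Group X] (hna : ¬ IsMulCommutative X) {K : Type v} [Field K] [Fintype K] {l : ℕ}
    (hl : 1 ≤ l) (hK : Fintype.card K = 2 ^ (2 * l + 1)) (e : X ≃* Cfsg.Lie.Sz K (2 ^ (l + 1))) :
    Nat.card (MulAut X) ≤ (2 ^ (2 * l + 1)) ^ 6 := by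
  have h1 := (S1163.result hl hK).1
  have hs := S1162.result hl hK
  have hfin : Finite ↥(Cfsg.Lie.Sz K (2 ^ (l + 1))) := Nat.finite_of_card_ne_zero (by
    rw [h1]
    have h2 : 2 ≤ 2 ^ (2 * l + 1) := by
      calc 2 = 2 ^ 1 := rfl
        _ ≤ _ := Nat.pow_le_pow_right (by norm_num) (by omega)
    have h3 : 2 ^ (2 * l + 1) - 1 ≠ 0 := by omega
    positivity)
  rw [card_aut hna e, S2126.result hl hK, h1]
  obtain ⟨q, hq⟩ : ∃ q, q = 2 ^ (2 * l + 1) := ⟨_, rfl⟩
  have h2 : 2 * l + 1 ≤ q := by rw [hq]; exact Nat.lt_two_pow_self.le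
  rw [← hq]
  have h3 : (q - 1) * (q ^ 2 + 1) ≤ q ^ 3 := by
    obtain ⟨c, rfl⟩ : ∃ c, q = c + 1 := ⟨q - 1, by omega⟩
    rw [Nat.add_sub_cancel]
    nlinarith
  calc (2 * l + 1) * (q ^ 2 * (q - 1) * (q ^ 2 + 1)) = (2 * l + 1) * (q ^ 2 * ((q - 1) * (q ^ 2 + 1))) := by ring
    _ ≤ q * (q ^ 2 * q ^ 3) := Nat.mul_le_mul h2 (Nat.mul_le_mul_left _ h3)
    _ = q ^ 6 := by ring

theorem charP_of_ringChar {F : Type*} [Field F] {p : ℕ} (h : ringChar F = p) : CharP F p := by
  rw [← h]; exact ringChar.charP F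

/-- **Suzuki groups, own characteristic.** -/
theorem own_sz {c : ℕ} (b : Big A Γ S P) (hc12 : c ≤ 12) (hUB : Nat.card Q ≤ Nat.card A ^ c)
    (hc : ringChar F = 2) (h : Lie.IsoSuzuki (socle P)) : False := by
  obtain ⟨K, _, _, l, hl, hK, ⟨e⟩⟩ := h
  have := charP_of_ringChar hc
  obtain ⟨s, hs, hFs, h4⟩ := sz_deg (core_of_residual b.core) hl hK e
  have h1 := sz_aut b.core.nonabelian hl hK e
  have h2 : Nat.card (MulAut (socle P)) ^ c ≤ Fintype.card F ^ (6 * s * c) := by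
    calc Nat.card (MulAut (socle P)) ^ c ≤ ((2 ^ (2 * l + 1)) ^ 6) ^ c := Nat.pow_le_pow_left h1 c
      _ = Fintype.card F ^ (6 * s * c) := by
        rw [← hFs, Nat.card_eq_fintype_card, ← pow_mul, ← pow_mul]
        congr 1
        ring
  have h3 := le_of_big b hUB h2
  have h13 := b.thirteen
  have h3' : 6 * s * c ≤ 72 * s := by
    calc 6 * s * c ≤ 6 * s * 12 := Nat.mul_le_mul_left _ hc12
      _ = 72 * s := by ring
  by_cases hs1 : s = 1
  · subst hs1
    have := tri_mono h13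
    norm_num at this
    omega
  · have hs3 : 3 ≤ s := by
      obtain ⟨k, hk⟩ := hs
      omega
    have h8 : ∀ s : ℕ, 3 ≤ s → 20 * s ≤ 4 ^ s := by
      intro s hs
      induction s, hs using Nat.le_induction with
      | base => norm_num
      | succ s hs ih => rw [pow_succ]; omega
    have h5 := tri_mono ((h8 s hs3).trans h4)
    have h6 : 20 * s * (20 * s - 1) / 2 = 10 * s * (20 * s - 1) := by
      rw [show 20 * s * (20 * s - 1) = 2 * (10 * s * (20 * s - 1)) by ring]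
      exact Nat.mul_div_cancel_left _ (by norm_num)
    rw [h6] at h5
    obtain ⟨t, rfl⟩ : ∃ t, s = t + 3 := ⟨s - 3, by omega⟩
    have h7 : 20 * (t + 3) - 1 = 20 * t + 59 := by omega
    rw [h7] at h5
    nlinarith

end ownsz

end Cfsg.Agent.H270.EP
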