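import Cfsg.Agent.H270.EP.Kill
import Cfsg.Agent.H867.TitsOut
import Cfsg.Agent.CpAutTits.Row
import Cfsg.Agent.S1074

/-!
# S3499, dimension at least 13: the Tits group, every characteristic (helper270)

`exists_ker` : a subgroup of order 25 with all nontrivial elements conjugate acts trivially in dimension at most 19
over the field with two elements.
-/

set_option autoImplicit false
set_option linter.unusedSectionVars false

namespace Cfsg.Agent.H270.EP

open Cfsg Cfsg.Geo Matrix Subgroup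
open Cfsg.Agent.H915.LD Cfsg.Agent.H419.EP

universe u v

/-- a subgroup of order 25, all nontrivial elements conjugate -/
def E25 (X : Type*) [Group X] : Prop :=
  ∃ E : Subgroup X, Nat.card E = 25 ∧ ∀ x ∈ E, ∀ y ∈ E, x ≠ 1 → y ≠ 1 → ∃ g : X, g * x * g⁻¹ = y

theorem E25.congr {X : Type u} [Group X] (h : E25 X) {Y : Type v} [Group Y] (e : X ≃* Y) : E25 Y := by
  obtain ⟨E, hE, h1⟩ := h
  refine ⟨E.map e.toMonoidHom, ?_, ?_⟩
  · rw [Subgroup.card_map_of_injective e.injective, hE]
  · rintro _ ⟨x, hx, rfl⟩ _ ⟨y, hy, rfl⟩ hx1 hy1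
    obtain ⟨g, hg⟩ := h1 x hx y hy (fun h => hx1 (by rw [h]; exact map_one _))
      (fun h => hy1 (by rw [h]; exact map_one _))
    refine ⟨e g, ?_⟩
    rw [← hg]
    change e g * e x * (e g)⁻¹ = e (g * x * g⁻¹)
    rw [map_mul, map_mul, map_inv]

section

open Cfsg.Agent.Omega.TwoF.Tits Cfsg.Agent.Omega.TwoF.Scalar Cfsg.Agent.Omega.TwoF.Orb
  Cfsg.Agent.ChevalleyStructure.Tits.Main

theorem e25_C : E25 C := by
  refine ⟨Cfsg.Agent.CpAutTits.Fus.P, Cfsg.Agent.CpAutTits.Fus.card_P, fun x hx y hy hx1 hy1 => ?_⟩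
  obtain ⟨s, -, hs⟩ := Cfsg.Agent.CpAutTits.Fus.fus hx hx1 hy hy1
  exact ⟨s, hs⟩

theorem e25_aux {X : Type} [Group X] (e : C ≃* X) : E25 X := by
  have h := e25_C
  exact h.congr e

end

theorem e25_TT_aux (K : Subgroup (Matrix.GeneralLinearGroup Cfsg.Agent.ChevalleyStructure.Tits.Mat.I52 (ZMod 2)))
    (hK : K = Cfsg.Agent.ChevalleyStructure.Tits.Order.H0)
    (e : Nonempty (↥(_root_.commutator K) ≃* ↥Cfsg.Agent.TitsK.TT)) : E25 ↥Cfsg.Agent.TitsK.TT := by
  subst hK
  obtain ⟨e⟩ := e
  exact e25_aux e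

theorem e25_TT : E25 ↥Cfsg.Agent.TitsK.TT :=
  e25_TT_aux (Cfsg.Lie.twistedF4 (ZMod 2) 1) Cfsg.Agent.ChevalleyStructure.Tits.Main.T0_eq_H0
    Cfsg.Agent.TitsK.exists_equiv

theorem e25 {X : Type u} [Group X] (h : Cfsg.Lie.IsoTits X) : E25 X := by
  obtain ⟨e⟩ := Cfsg.Agent.CpAutTits.Row.exists_equiv h
  have h1 := e25_TT
  exact h1.congr e.symm

section

variable {X : Type u} [Group X] {ι : Type} [Fintype ι] [DecidableEq ι] {F : Type} [Field F] [Fintype F]

/-- the fixed vectors -/
def fixS (φ : X →* GL ι F) (x : X) : Submodule F (ι → F) where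
  carrier := {v | ((φ x : GL ι F) : Matrix ι ι F) *ᵥ v = v}
  add_mem' {a b} ha hb := by
    change ((φ x : GL ι F) : Matrix ι ι F) *ᵥ (a + b) = a + b
    rw [Matrix.mulVec_add, ha, hb]
  zero_mem' := Matrix.mulVec_zero _
  smul_mem' c a ha := by
    change ((φ x : GL ι F) : Matrix ι ι F) *ᵥ (c • a) = c • a
    rw [Matrix.mulVec_smul, ha]

theorem mem_fixS {φ : X →* GL ι F} {x : X} {v : ι → F} :
    v ∈ fixS φ x ↔ ((φ x : GL ι F) : Matrix ι ι F) *ᵥ v = v := Iff.rfl

theorem mulVec_mul' (φ : X →* GL ι F) (x y : X) (v : ι → F) :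
    ((φ (x * y) : GL ι F) : Matrix ι ι F) *ᵥ v =
      ((φ x : GL ι F) : Matrix ι ι F) *ᵥ (((φ y : GL ι F) : Matrix ι ι F) *ᵥ v) := by
  rw [Matrix.mulVec_mulVec, map_mul, Units.val_mul]

theorem mulVec_one' (φ : X →* GL ι F) (v : ι → F) : ((φ 1 : GL ι F) : Matrix ι ι F) *ᵥ v = v := by
  rw [map_one, Units.val_one, Matrix.one_mulVec]

theorem card_fixS_le (φ : X →* GL ι F) (g x : X) : Nat.card (fixS φ x) ≤ Nat.card (fixS φ (g * x * g⁻¹)) := by
  let f : fixS φ x → fixS φ (g * x * g⁻¹) := fun v => ⟨((φ g : GL ι F) : Matrix ι ι F) *ᵥ v, by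
    rw [mem_fixS, ← mulVec_mul', inv_mul_cancel_right, mulVec_mul', mem_fixS.1 v.2]⟩
  refine Nat.card_le_card_of_injective f fun a b hab => ?_
  have h1 : ((φ g : GL ι F) : Matrix ι ι F) *ᵥ (a : ι → F) = ((φ g : GL ι F) : Matrix ι ι F) *ᵥ b :=
    congrArg Subtype.val hab
  have h2 := congrArg (fun w => ((φ g⁻¹ : GL ι F) : Matrix ι ι F) *ᵥ w) h1
  rw [← mulVec_mul', ← mulVec_mul', inv_mul_cancel, mulVec_one', mulVec_one'] at h2
  exact Subtype.ext h2

theorem card_fixS_conj (φ : X →* GL ι F) (g x : X) : Nat.card (fixS φ (g * x * g⁻¹)) = Nat.card (fixS φ x) := by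
  refine le_antisymm ?_ (card_fixS_le φ g x)
  have h1 := card_fixS_le φ g⁻¹ (g * x * g⁻¹)
  have h2 : g⁻¹ * (g * x * g⁻¹) * g⁻¹⁻¹ = x := by group
  rwa [h2] at h1

/-- the action of `X` on the vectors -/
@[reducible] def act (φ : X →* GL ι F) : MulAction X (ι → F) where
  smul x v := ((φ x : GL ι F) : Matrix ι ι F) *ᵥ v
  one_smul v := mulVec_one' φ v
  mul_smul x y v := mulVec_mul' φ x y v

theorem num (n c : ℕ) (hn : n < 20) (hc : c ≤ n) (h : 25 ∣ 2 ^ n + 24 * 2 ^ c) : c = n := by
  have h0 : c < 20 := by omega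
  interval_cases n <;> interval_cases c <;> revert h <;> norm_num

theorem exists_ker (h : E25 X) (hF : Fintype.card F = 2) (hn : Fintype.card ι < 20) (φ : X →* GL ι F) :
    ∃ x : X, x ≠ 1 ∧ φ x = 1 := by
  classical
  obtain ⟨E, hE, hc⟩ := h
  have hfE : Finite E := Nat.finite_of_card_ne_zero (by omega)
  have := Fintype.ofFinite E
  let _ : MulAction E (ι → F) := act (φ.comp E.subtype)
  have hb := MulAction.sum_card_fixedBy_eq_card_orbits_mul_card_group E (ι → F)
  have h1 : ∀ x : E, Fintype.card (MulAction.fixedBy (ι → F) x) = Nat.card (fixS φ (x : X)) := by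
    intro x
    rw [← Nat.card_eq_fintype_card]
    rfl
  -- a nontrivial element
  obtain ⟨e, he⟩ : ∃ e : E, e ≠ 1 := by
    by_contra hne
    push Not at hne
    have : Subsingleton E := ⟨fun a b => by rw [hne a, hne b]⟩
    have := Nat.card_of_subsingleton (1 : E)
    omega
  have hx1 : (e : X) ≠ 1 := fun h => he (Subtype.ext h)
  have h2 : ∀ x : E, x ≠ 1 → Nat.card (fixS φ (x : X)) = Nat.card (fixS φ (e : X)) := by
    intro x hx
    obtain ⟨g, hg⟩ := hc e e.2 x x.2 hx1 (fun h => hx (Subtype.ext h))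
    rw [← hg, card_fixS_conj]
  have h3 : Nat.card (fixS φ ((1 : E) : X)) = 2 ^ Fintype.card ι := by
    have h4 : fixS φ ((1 : E) : X) = ⊤ := by
      rw [eq_top_iff]
      intro v _
      rw [mem_fixS, OneMemClass.coe_one, mulVec_one']
    rw [h4, Nat.card_congr (Submodule.topEquiv (R := F) (M := ι → F)).toEquiv, Nat.card_eq_fintype_card,
      Fintype.card_fun, hF]
  have h4 : Nat.card (fixS φ (e : X)) = 2 ^ Module.finrank F (fixS φ (e : X)) := by
    rw [Nat.card_eq_fintype_card, Module.card_eq_pow_finrank (K := F), hF]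
  have h5 : Module.finrank F (fixS φ (e : X)) ≤ Fintype.card ι := by
    have := Submodule.finrank_le (fixS φ (e : X))
    rwa [Module.finrank_fintype_fun_eq_card] at this
  have hcE : Fintype.card E = 25 := by rw [← Nat.card_eq_fintype_card, hE]
  have h6 : ∑ x : E, Fintype.card (MulAction.fixedBy (ι → F) x) =
      2 ^ Fintype.card ι + 24 * 2 ^ Module.finrank F (fixS φ (e : X)) := by
    rw [← Finset.add_sum_erase Finset.univ _ (Finset.mem_univ (1 : E)), h1, h3]
    congr 1
    rw [Finset.sum_congr rfl fun x hx => (h1 x).trans ((h2 x (Finset.ne_of_mem_erase hx)).trans h4),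
      Finset.sum_const, Finset.card_erase_of_mem (Finset.mem_univ _), Finset.card_univ, hcE, smul_eq_mul]
  rw [h6, hcE] at hb
  have h7 := num _ _ hn h5 ⟨_, hb.trans (mul_comm _ _)⟩
  refine ⟨e, hx1, ?_⟩
  have h8 : fixS φ (e : X) = ⊤ := Submodule.eq_top_of_finrank_eq (by
    rw [h7, Module.finrank_fintype_fun_eq_card])
  apply Units.ext
  apply Matrix.toLin'.injective
  apply LinearMap.ext
  intro v
  have h9 : v ∈ fixS φ (e : X) := by rw [h8]; trivial
  rw [Matrix.toLin'_apply, Matrix.toLin'_apply, Units.val_one, Matrix.one_mulVec]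
  exact h9

end

section

variable {Q : Type} [Group Q] [Finite Q] {A : Subgroup Q} {Γ : Subgroup (MulAut Q)} {ι : Type} [Fintype ι]
    [DecidableEq ι] {F : Type} [Field F] [Fintype F] {S P : Subgroup (GL ι F)}

theorem scalars_two (hF : Fintype.card F = 2) (P : Subgroup (GL ι F)) : (scalars ι F).subgroupOf P = ⊥ := by
  rw [eq_bot_iff]
  intro x hx
  rw [Subgroup.mem_subgroupOf, mem_scalars_iff] at hx
  obtain ⟨c, hc⟩ := hx
  classical
  have h1 : Fintype.card Fˣ = 1 := by rw [Fintype.card_units, hF]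
  have h2 : c = 1 := by
    have := Fintype.card_le_one_iff_subsingleton.1 h1.le
    exact Subsingleton.elim _ _
  rw [Subgroup.mem_bot]
  apply Subtype.ext
  apply Units.ext
  rw [hc, h2, Units.val_one, one_smul]
  rfl

theorem tits_aut (hna : ¬ IsMulCommutative (socle P)) (hs : IsSimpleGroup (socle P)) (h : Lie.IsoTits (socle P)) :
    Nat.card (MulAut (socle P)) ≤ 35942400 := by
  have hfin := finite_socle P
  rw [card_aut hna (MulEquiv.refl (socle P))]
  obtain ⟨e⟩ := id h
  have h2 : Nat.card (socle P) = 2 ^ 11 * 3 ^ 3 * 5 ^ 2 * 13 := by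
    rw [Nat.card_congr e.toEquiv, S1074.result.2.2.2]
  have h3 := H867.TitsOut.card_out_le h
  rw [h2]
  have := Nat.mul_le_mul_right (2 ^ 11 * 3 ^ 3 * 5 ^ 2 * 13) h3
  norm_num at this ⊢
  exact this

/-- The Tits group in dimension at least 20 over the field with two elements -/
theorem twenty_le (h : Lie.IsoTits (socle P)) (hF : Fintype.card F = 2) : 20 ≤ Fintype.card ι := by
  by_contra hn
  let e : socle P ≃* P := (QuotientGroup.quotientMulEquivOfEq (scalars_two hF P)).trans QuotientGroup.quotientBot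
  obtain ⟨x, hx, hx1⟩ := exists_ker (e25 h) hF (not_le.1 hn) (P.subtype.comp e.toMonoidHom)
  apply hx
  apply e.injective
  rw [map_one]
  exact Subtype.ext hx1

/-- **The Tits group.** -/
theorem not_tits (b : Big A Γ S P) (hUB : Nat.card Q ≤ Nat.card A ^ 4) (h : Lie.IsoTits (socle P)) : False := by
  have h13 := b.thirteen
  have h1 := tits_aut b.core.nonabelian b.core.simple h
  by_cases hF : Fintype.card F = 2
  · have h2 : Nat.card (MulAut (socle P)) ^ 4 ≤ Fintype.card F ^ 101 := by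
      rw [hF]
      refine (Nat.pow_le_pow_left h1 4).trans ?_
      norm_num
    have h3 := le_of_big b hUB h2
    have := tri_mono (twenty_le h hF)
    norm_num at this
    omega
  · have hF3 : 3 ≤ Fintype.card F := by
      have := b.two_le
      omega
    have h2 : Nat.card (MulAut (socle P)) ^ 4 ≤ Fintype.card F ^ 64 := by
      refine (Nat.pow_le_pow_left h1 4).trans (le_trans ?_ (Nat.pow_le_pow_left hF3 64))
      norm_num
    have h3 := le_of_big b hUB h2
    have := tri_mono h13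
    norm_num at this
    omega

/-- **The Tits group, own characteristic, exponent at most 6.** -/
theorem own_tits {c : ℕ} (b : Big A Γ S P) (hc6 : c ≤ 6) (hUB : Nat.card Q ≤ Nat.card A ^ c)
    (hc : ringChar F = 2) (h : Lie.IsoTits (socle P)) : False := by
  have h13 := b.thirteen
  have h1 := tits_aut b.core.nonabelian b.core.simple h
  have hfin := finite_socle P
  have hpos : 0 < Nat.card A := Nat.card_pos
  have h0 : 8 * Nat.card Q ≤ 8 * 35942400 ^ 6 := Nat.mul_le_mul_left _ (hUB.trans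
    ((Nat.pow_le_pow_right hpos hc6).trans (Nat.pow_le_pow_left (b.hasSoc.card_le.trans h1) 6)))
  have h2 := b.ord.trans h0
  by_cases hF : Fintype.card F = 2
  · have h3 : 2 ^ 190 ≤ Fintype.card F ^ (Fintype.card ι * (Fintype.card ι - 1) / 2) := by
      rw [hF]
      apply Nat.pow_le_pow_right (by norm_num)
      have := tri_mono (twenty_le h hF)
      norm_num at this
      exact this
    have h4 := h3.trans h2
    norm_num at h4
  · have hF4 : 4 ≤ Fintype.card F := by
      have := charP_of_ringChar hc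
      obtain ⟨f, hf0, hf⟩ := FiniteField.card F 2
      have h5 : 2 ≤ (f : ℕ) := by
        by_contra h5
        have h6 : (f : ℕ) = 1 := by
          have := f.pos
          omega
        apply hF
        rw [hf, h6, pow_one]
      rw [hf]
      calc 4 = 2 ^ 2 := rfl
        _ ≤ _ := Nat.pow_le_pow_right (by norm_num) h5
    have h3 : 4 ^ 78 ≤ Fintype.card F ^ (Fintype.card ι * (Fintype.card ι - 1) / 2) := by
      refine (Nat.pow_le_pow_left hF4 78).trans (Nat.pow_le_pow_right (by omega) ?_)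
      have := tri_mono h13
      norm_num at this
      exact this
    have h4 := h3.trans h2
    norm_num at h4

end

end Cfsg.Agent.H270.EP
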