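import Cfsg.Agent.H270.EP.Kill
import Cfsg.Agent.H315.TwF.Main
import Cfsg.Agent.S2128

/-!
# S3499, dimension at least 13, own characteristic: large Ree groups (helper270)
-/

set_option autoImplicit false
set_option linter.unusedSectionVars false

namespace Cfsg.Agent.H270.EP

open Cfsg Cfsg.Geo Matrix
open Cfsg.Agent.H915.LD Cfsg.Agent.H100.Ppd Cfsg.Agent.H905.Md Cfsg.Agent.H315.TwF Cfsg.Agent.H419.EP

universe u v

section

variable {ι : Type} [Fintype ι] [DecidableEq ι] {F : Type u} [Field F] [Finite F] {P : Subgroup (GL ι F)}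

/-- **Large Ree groups in characteristic two: the degree.** -/
theorem twf_deg [CharP F 2] (hC : Core P) {K : Type} [Field K] [Fintype K] {l : ℕ} (hl : 1 ≤ l)
    (hK : Fintype.card K = 2 ^ (2 * l + 1)) (e : Soc P ≃* ↥(Lie.twistedF4 K (2 ^ l))) :
    ∃ t, 1 ≤ t ∧ (2 ^ (2 * l + 1)) ^ 4 ≤ Nat.card F ^ t ∧ 6 * t ≤ Fintype.card ι := by
  have hp2 : Fact (Nat.Prime 2) := ⟨Nat.prime_two⟩
  have hFin : Fintype F := Fintype.ofFinite F
  obtain ⟨φ, -, hker, -⟩ := exists_cover (p := 2) hC.perfect e (Cfsg.Agent.S1112.result hK hl)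
    (fun r hr hr2 => Cfsg.Agent.H67.TwFFourOdd.noPCov_odd hl hK hr hr2) (πG := MonoidHom.id _) Function.surjective_id
    (by rw [MonoidHom.ker_id]; exact bot_le)
  obtain ⟨d, -, hd⟩ := FiniteField.card F 2
  have hq : Nat.card F = 2 ^ (d : ℕ) := by rw [Nat.card_eq_fintype_card, hd]
  set N := 4 * (2 * l + 1) with hN
  obtain ⟨r', hr', hprim, hr'N, hr'2⟩ := Cfsg.Agent.Lib.Zsigmondy.exists_primitive (a := 2) (n := N) le_rfl (by omega)
    (fun h => by omega) (by omega)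
  have hr'ne : r' ≠ 2 := fun h => hr'2 (h ▸ dvd_rfl)
  obtain ⟨Q, hQ⟩ : ∃ Q, Q = 2 ^ (2 * l + 1) := ⟨_, rfl⟩
  have hQ1 : 1 ≤ Q := by rw [hQ]; exact Nat.one_le_two_pow
  have hr'Q : r' ∣ Nat.card K * Nat.card K + 1 := by
    have h1 : r' ∣ 2 ^ N - 1 := (hprim N).2 dvd_rfl
    have h2 : ¬ r' ∣ 2 ^ (2 * (2 * l + 1)) - 1 := fun h3 => by
      have := Nat.le_of_dvd (by omega) ((hprim _).1 h3)
      omega
    rw [Nat.card_eq_fintype_card, hK, ← hQ]
    have h3 : 2 ^ N - 1 = (2 ^ (2 * (2 * l + 1)) - 1) * (Q * Q + 1) := by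
      have e1 : 2 ^ N = Q * Q * (Q * Q) := by rw [hQ, hN, ← pow_add, ← pow_add]; congr 1; ring
      have e2 : 2 ^ (2 * (2 * l + 1)) = Q * Q := by rw [hQ, ← pow_add]; congr 1; ring
      rw [e1, e2]
      obtain ⟨c, hc⟩ : ∃ c, Q * Q = c + 1 := ⟨Q * Q - 1, by
        have : 1 ≤ Q * Q := Nat.one_le_iff_ne_zero.2 (by positivity)
        omega⟩
      rw [hc, Nat.add_sub_cancel]
      apply Nat.sub_eq_of_eq_add
      ring
    rw [h3] at h1
    exact (hr'.dvd_mul.1 h1).resolve_left h2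
  set kk := AlgebraicClosure F with hkk
  have hch : CharP kk 2 := charP_of_injective_algebraMap (algebraMap F _).injective 2
  have hodd : ∀ a : ℕ, ¬ 2 ∣ a → (a : kk) ≠ 0 := fun a ha h0 => ha ((CharP.cast_eq_zero_iff kk 2 a).1 h0)
  have hbound : 6 * orderOf ((Nat.card F : ℕ) : ZMod r') ≤ Fintype.card ι := by
    have h1 := rep_bound (K := K) (m := l) (by exact_mod_cast hodd 5 (by norm_num)) hl hK
      (Cfsg.Agent.H911.lin (acRep φ)) (r := r') ?_ hr' hr'ne hr'Q (hodd r' (fun h => hr'ne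
        ((Nat.prime_dvd_prime_iff_eq Nat.prime_two hr').1 h).symm)) (semi_frob φ) ?_
        (fun α h1 h2 => card_Or hr' h1 h2)
    · rwa [Module.finrank_pi] at h1
    · intro g hg
      have h6 : φ g = 1 := by
        apply Units.ext
        have h7 : acRep φ g = 1 := by
          have := congrArg LinearMap.toMatrix' hg
          simpa [Cfsg.Agent.H911.lin] using this
        rw [acRep_apply] at h7
        apply Matrix.map_injective (algebraMap F (AlgebraicClosure F)).injective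
        refine h7.trans ?_
        ext i j
        simp [Matrix.one_apply, apply_ite (algebraMap F (AlgebraicClosure F))]
      have h8 : g ∈ φ.ker := h6
      have h9 := hker h8
      rwa [MonoidHom.ker_id, Subgroup.mem_bot] at h9
    · intro α hα
      have h2 : (α - 1) ^ Nat.card F = 0 := by
        rw [hq, sub_pow_char_pow, one_pow, ← hq, hα, sub_self]
      exact sub_eq_zero.1 ((pow_eq_zero_iff (Nat.card_pos (α := F)).ne').1 h2)
  have hfr : Fact r'.Prime := ⟨hr'⟩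
  have h3 : 0 < orderOf ((Nat.card F : ℕ) : ZMod r') := by
    rw [orderOf_pos_iff, isOfFinOrder_iff_pow_eq_one]
    refine ⟨r' - 1, by have := hr'.one_lt; omega, ZMod.pow_card_sub_one_eq_one ?_⟩
    rw [Ne, ZMod.natCast_eq_zero_iff, hq]
    exact fun h => hr'2 (hr'.dvd_of_dvd_pow h)
  refine ⟨_, h3, ?_, hbound⟩
  -- `N ∣ d t`
  have h4 : N ∣ (d : ℕ) * orderOf ((Nat.card F : ℕ) : ZMod r') := by
    rw [← hprim]
    have h5 : 1 ≤ 2 ^ ((d : ℕ) * orderOf ((Nat.card F : ℕ) : ZMod r')) := Nat.one_le_two_pow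
    rw [← ZMod.natCast_eq_zero_iff, Nat.cast_sub h5, Nat.cast_one, sub_eq_zero]
    have h6 := pow_orderOf_eq_one ((Nat.card F : ℕ) : ZMod r')
    rw [pow_mul, ← hq, Nat.cast_pow]
    exact h6
  have h5 : N ≤ (d : ℕ) * orderOf ((Nat.card F : ℕ) : ZMod r') :=
    Nat.le_of_dvd (Nat.mul_pos d.pos h3) h4
  calc (2 ^ (2 * l + 1)) ^ 4 = 2 ^ N := by rw [← pow_mul, hN]; congr 1; ring
    _ ≤ 2 ^ ((d : ℕ) * orderOf ((Nat.card F : ℕ) : ZMod r')) := Nat.pow_le_pow_right (by norm_num) h5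
    _ = Nat.card F ^ orderOf ((Nat.card F : ℕ) : ZMod r') := by rw [pow_mul, ← hq]

end

section own

variable {Q : Type} [Group Q] [Finite Q] {A : Subgroup Q} {Γ : Subgroup (MulAut Q)} {ι : Type} [Fintype ι]
    [DecidableEq ι] {F : Type} [Field F] [Fintype F] {S P : Subgroup (GL ι F)}

/-- `|Aut ²F₄(K)| ≤ |K| ^ 27` -/
theorem twf_aut {X : Type u} [Group X] (hna : ¬ IsMulCommutative X) (hX : IsSimpleGroup X) {K : Type v} [Field K]
    [Fintype K] {l : ℕ} (hl : 1 ≤ l) (hK : Fintype.card K = 2 ^ (2 * l + 1))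
    (e : X ≃* ↥(Lie.twistedF4 K (2 ^ l))) : Nat.card (MulAut X) ≤ (2 ^ (2 * l + 1)) ^ 27 := by
  have h1 := S1068.result hK
  have hs : IsSimpleGroup ↥(Lie.twistedF4 K (2 ^ l)) := e.symm.isSimpleGroup
  have hq2 : 2 ≤ 2 ^ (2 * l + 1) := by
    calc 2 = 2 ^ 1 := rfl
      _ ≤ _ := Nat.pow_le_pow_right (by norm_num) (by omega)
  have hfin : Finite ↥(Lie.twistedF4 K (2 ^ l)) := Nat.finite_of_card_ne_zero (by
    rw [h1]
    have h3 : 2 ^ (2 * l + 1) - 1 ≠ 0 := by omega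
    have h4 : (2 ^ (2 * l + 1)) ^ 4 - 1 ≠ 0 := by
      have := Nat.pow_le_pow_left hq2 4
      omega
    positivity)
  rw [card_aut hna e, S2128.result hl hK, h1]
  obtain ⟨q, hq⟩ : ∃ q, q = 2 ^ (2 * l + 1) := ⟨_, rfl⟩
  have h2 : 2 * l + 1 ≤ q := by rw [hq]; exact (Nat.lt_pow_self (by norm_num)).le
  rw [← hq] at hq2 ⊢
  have h3 : (q - 1) * (q ^ 3 + 1) ≤ q ^ 4 := by
    obtain ⟨c, rfl⟩ : ∃ c, q = c + 1 := ⟨q - 1, by omega⟩
    rw [Nat.add_sub_cancel]
    have h4 : c ≤ (c + 1) ^ 3 := (Nat.le_succ c).trans (Nat.le_self_pow (by norm_num) _)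
    have h5 : (c + 1) ^ 4 + c = c * ((c + 1) ^ 3 + 1) + (c + 1) ^ 3 := by ring
    omega
  have h4 : (q ^ 4 - 1) * (q ^ 6 + 1) ≤ q ^ 10 := by
    obtain ⟨c, hc⟩ : ∃ c, q ^ 4 = c + 1 := ⟨q ^ 4 - 1, by
      have := Nat.pow_le_pow_left hq2 4
      omega⟩
    have h5 : q ^ 10 = (c + 1) * q ^ 6 := by rw [← hc]; ring
    have h6 : c ≤ q ^ 6 := by
      have : q ^ 4 ≤ q ^ 6 := Nat.pow_le_pow_right (by omega) (by norm_num)
      omega
    rw [hc, Nat.add_sub_cancel, h5]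
    have h7 : (c + 1) * q ^ 6 = c * q ^ 6 + q ^ 6 := by ring
    have h8 : c * (q ^ 6 + 1) = c * q ^ 6 + c := by ring
    omega
  calc (2 * l + 1) * (q ^ 12 * (q - 1) * (q ^ 3 + 1) * (q ^ 4 - 1) * (q ^ 6 + 1))
      = (2 * l + 1) * (q ^ 12 * (((q - 1) * (q ^ 3 + 1)) * ((q ^ 4 - 1) * (q ^ 6 + 1)))) := by ring
    _ ≤ q * (q ^ 12 * (q ^ 4 * q ^ 10)) := Nat.mul_le_mul h2 (Nat.mul_le_mul_left _ (Nat.mul_le_mul h3 h4))
    _ = q ^ 27 := by ring

/-- **Large Ree groups, own characteristic.** -/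
theorem own_2f4 {c : ℕ} (b : Big A Γ S P) (hc5 : c ≤ 5) (hUB : Nat.card Q ≤ Nat.card A ^ c)
    (hc : ringChar F = 2) (h : Lie.Iso2F4 (socle P)) : False := by
  obtain ⟨K, _, _, l, hl, hK, ⟨e⟩⟩ := h
  have := charP_of_ringChar hc
  obtain ⟨t, ht, hFt, h6⟩ := twf_deg (core_of_residual b.core) hl hK e
  have h1 := twf_aut b.core.nonabelian b.core.simple hl hK e
  have h2 : Nat.card (MulAut (socle P)) ^ c ≤ Fintype.card F ^ (34 * t) := by
    calc Nat.card (MulAut (socle P)) ^ c ≤ ((2 ^ (2 * l + 1)) ^ 27) ^ c := Nat.pow_le_pow_left h1 c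
      _ ≤ ((2 ^ (2 * l + 1)) ^ 27) ^ 5 := Nat.pow_le_pow_right (by positivity) hc5
      _ = (2 ^ (2 * l + 1)) ^ 135 := by rw [← pow_mul _ 27 5]
      _ ≤ (2 ^ (2 * l + 1)) ^ 136 := Nat.pow_le_pow_right (by positivity) (by norm_num)
      _ = ((2 ^ (2 * l + 1)) ^ 4) ^ 34 := by rw [← pow_mul _ 4 34]
      _ ≤ (Nat.card F ^ t) ^ 34 := Nat.pow_le_pow_left hFt 34
      _ = Fintype.card F ^ (34 * t) := by
        rw [Nat.card_eq_fintype_card, ← pow_mul]
        congr 1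
        ring
  have h3 := le_of_big b hUB h2
  have h13 := b.thirteen
  by_cases ht2 : t ≤ 2
  · have := tri_mono h13
    norm_num at this
    omega
  · have h5 := tri_mono h6
    have h7 : 6 * t * (6 * t - 1) / 2 = 3 * t * (6 * t - 1) := by
      rw [show 6 * t * (6 * t - 1) = 2 * (3 * t * (6 * t - 1)) by ring]
      exact Nat.mul_div_cancel_left _ (by norm_num)
    rw [h7] at h5
    obtain ⟨s, rfl⟩ : ∃ s, t = s + 3 := ⟨t - 3, by omega⟩
    have h8 : 6 * (s + 3) - 1 = 6 * s + 17 := by omega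
    rw [h8] at h5
    nlinarith

end own

end Cfsg.Agent.H270.EP
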