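import Cfsg.Agent.H270.EP.Ree
import Cfsg.Agent.H270.EP.TwoF
import Cfsg.Agent.H270.EP.Tits

/-!
# S3499, dimension at least 13: Suzuki, Ree, large Ree groups in their own characteristic, the Tits group (helper270)

The forms with the field `K` of the socle.
-/

set_option autoImplicit false

namespace Cfsg.Agent.H270.EP

open Cfsg Matrix Cfsg.Agent.H419.EP

variable {Q : Type} [Group Q] [Finite Q] {A : Subgroup Q} {Γ : Subgroup (MulAut Q)} {ι : Type} [Fintype ι]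
    [DecidableEq ι] {F : Type} [Field F] [Fintype F] {S P : Subgroup (GL ι F)}

theorem ringChar_of_card {K : Type*} [Field K] [Fintype K] {p k : ℕ} (hp : p.Prime)
    (hK : Fintype.card K = p ^ k) : ringChar K = p := by
  have := Fact.mk hp
  have : CharP K p := charP_of_card_eq_prime_pow hK
  exact ringChar.eq_iff.2 this

/-- `Sz(K)`, `char F = char K` -/
theorem own_sz' {c : ℕ} (b : Big A Γ S P) (hc12 : c ≤ 12) (hUB : Nat.card Q ≤ Nat.card A ^ c) (K : Type) [Field K]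
    [Fintype K] (l : ℕ) (hl : 1 ≤ l) (hK : Fintype.card K = 2 ^ (2 * l + 1)) (hc : ringChar F = ringChar K)
    (e : Nonempty (socle P ≃* ↥(Lie.Sz K (2 ^ (l + 1))))) : False :=
  own_sz b hc12 hUB (hc.trans (ringChar_of_card Nat.prime_two hK)) ⟨K, _, _, l, hl, hK, e⟩

/-- `²G₂(K)`, `char F = char K` -/
theorem own_ree' {c : ℕ} (b : Big A Γ S P) (hc9 : c ≤ 9) (hUB : Nat.card Q ≤ Nat.card A ^ c) (K : Type) [Field K]
    [Fintype K] (l : ℕ) (hl : 1 ≤ l) (hK : Fintype.card K = 3 ^ (2 * l + 1)) (hc : ringChar F = ringChar K)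
    (e : Nonempty (socle P ≃* ↥(Lie.twistedG2 K (3 ^ l)))) : False :=
  own_ree b hc9 hUB (hc.trans (ringChar_of_card Nat.prime_three hK)) ⟨K, _, _, l, hl, hK, e⟩

/-- `²F₄(K)`, `char F = char K` -/
theorem own_2f4' {c : ℕ} (b : Big A Γ S P) (hc5 : c ≤ 5) (hUB : Nat.card Q ≤ Nat.card A ^ c) (K : Type) [Field K]
    [Fintype K] (l : ℕ) (hl : 1 ≤ l) (hK : Fintype.card K = 2 ^ (2 * l + 1)) (hc : ringChar F = ringChar K)
    (e : Nonempty (socle P ≃* ↥(Lie.twistedF4 K (2 ^ l)))) : False :=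
  own_2f4 b hc5 hUB (hc.trans (ringChar_of_card Nat.prime_two hK)) ⟨K, _, _, l, hl, hK, e⟩

/-- The four families together, exponent at most 5. -/
theorem own_tw {c : ℕ} (b : Big A Γ S P) (hc5 : c ≤ 5) (hUB : Nat.card Q ≤ Nat.card A ^ c)
    (h : (ringChar F = 2 ∧ Lie.IsoSuzuki (socle P)) ∨ (ringChar F = 3 ∧ Lie.IsoRee (socle P)) ∨
      (ringChar F = 2 ∧ Lie.Iso2F4 (socle P)) ∨ (ringChar F = 2 ∧ Lie.IsoTits (socle P))) : False := by
  rcases h with ⟨hc, h⟩ | ⟨hc, h⟩ | ⟨hc, h⟩ | ⟨hc, h⟩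
  · exact own_sz b (by omega) hUB hc h
  · exact own_ree b (by omega) hUB hc h
  · exact own_2f4 b hc5 hUB hc h
  · exact own_tits b (by omega) hUB hc h

end Cfsg.Agent.H270.EP
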