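import Cfsg.Agent.H270.EP.Kill
import Cfsg.Agent.H909.PpdReeB
import Cfsg.Agent.S2127

/-!
# S3499, dimension at least 13, own characteristic: Ree groups (helper270)
-/

set_option autoImplicit false
set_option linter.unusedSectionVars false

namespace Cfsg.Agent.H270.EP

open Matrix
open Cfsg Cfsg.Geo Cfsg.Lie Cfsg.Agent.ChevalleyStructure.Ree Cfsg.Agent.ChevalleyStructure.Ree.Words
  Cfsg.Agent.ChevalleyStructure.Ree.Gens Cfsg.Agent.ChevalleyStructure.Ree.Normal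
  Cfsg.Agent.ChevalleyStructure.Ree.Bruhat Cfsg.Agent.ChevalleyStructure.Ree.Blocks
  Cfsg.Agent.LieRecognition.ReeSylowThree Cfsg.Agent.FixBN.ReeSplit Cfsg.Agent.H905.Md Cfsg.Agent.H915.LD
  Cfsg.Agent.H911 Cfsg.Agent.H100.Ppd Cfsg.Agent.H141.ReeK Cfsg.Agent.H909.Ppd Cfsg.Agent.H909.ReeKer
  Cfsg.Agent.H419.EP

universe u v

section

variable {ι : Type} [Fintype ι] [DecidableEq ι] {F : Type u} [Field F] [Finite F] {P : Subgroup (GL ι F)}

/-- **Ree groups in characteristic three: the degree.** -/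
theorem ree_deg [CharP F 3] (hC : Core P) {K : Type v} [Field K] [Fintype K] {l : ℕ} (hl : 1 ≤ l)
    (hK : Fintype.card K = 3 ^ (2 * l + 1)) (e : Soc P ≃* ↥(twistedG2 K (3 ^ l))) :
    ∃ s, Nat.card F ^ s = 3 ^ (2 * l + 1) ∧ (s = 1 ∨ (3 ≤ s ∧ (4 ^ s ≤ Fintype.card ι ∨
      3 ^ s - 2 ≤ Fintype.card ι))) := by
  classical
  have h3p : Fact (Nat.Prime 3) := ⟨Nat.prime_three⟩
  have hk : CharP (AlgebraicClosure F) 3 :=
    charP_of_injective_ringHom (algebraMap F (AlgebraicClosure F)).injective 3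
  obtain ⟨s, hs, hFs⟩ := card_pow_eq (F := F) 3 (a := 2 * l + 1) (by omega)
    (pow_eq_of_no_subfield hC.absIrred hC.no_subfield 3 _ fun g hg => by
      rw [← hK]
      exact (ree_both hC.absIrred hC.perfect hl hK e hg).1)
  refine ⟨s, hFs, ?_⟩
  have hF := Fintype.ofFinite F
  obtain ⟨f, hf0, hf⟩ := FiniteField.card F 3
  have hF3 : Nat.card F = 3 ^ (f : ℕ) := by rw [Nat.card_eq_fintype_card, hf]
  have hfs : (f : ℕ) * s = 2 * l + 1 := by
    rw [hF3, ← pow_mul] at hFs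
    exact Nat.pow_right_injective (show 2 ≤ 3 by norm_num) hFs
  by_cases hs1 : s = 1
  · exact Or.inl hs1
  right
  have hs3 : 3 ≤ s := by
    have hodd : Odd (f * s : ℕ) := ⟨l, by rw [hfs]⟩
    have := (Nat.odd_mul.1 hodd).2
    obtain ⟨b, hb⟩ := this
    omega
  refine ⟨hs3, ?_⟩
  obtain ⟨θ, c⟩ := exists_ctx hK
  obtain ⟨j⟩ := H141.ReeK.exists_emb F hK
  obtain ⟨φ, v, ψ, r, hφ, hinj, hr1, hr2, hψv, hU, hT, hψU, hψn, -, hker⟩ := core_coef hC hl hK e c j
  have hv : v ≠ 0 := by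
    rintro rfl
    rw [map_zero] at hψv
    exact zero_ne_one hψv
  have hper := period hC hK c j hφ hv hU hT
  have hq3 : 3 ^ 1 ≤ 3 ^ (f : ℕ) := Nat.pow_le_pow_right (by norm_num) f.pos
  have hGm := Gm_mul f s
  rw [hfs] at hGm
  obtain ⟨t, ht⟩ : Gm f s ∣ r := by
    rw [hK, hF3] at hper
    have h1 : 3 ^ (2 * l + 1) - 1 = Gm f s * (3 ^ (f : ℕ) - 1) := by omega
    rw [h1] at hper
    exact Nat.dvd_of_mul_dvd_mul_right (by omega) hper
  have ht1 : 1 ≤ t := by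
    rcases Nat.eq_zero_or_pos t with rfl | h1
    · rw [mul_zero] at ht; omega
    · exact h1
  have ht2 : t ≤ 3 ^ (f : ℕ) - 1 := by
    have h1 : Gm f s * t ≤ Gm f s * (3 ^ (f : ℕ) - 1) := by
      rw [← ht]
      rw [hK] at hr2
      omega
    exact Nat.le_of_mul_le_mul_left h1 (Gm_pos (by omega))
  rw [mul_comm] at ht
  have hfr : Module.finrank (AlgebraicClosure F) (ι → AlgebraicClosure F) = Fintype.card ι :=
    Module.finrank_fintype_fun_eq_card _
  rcases per_le (V := ι → AlgebraicClosure F) j hl hK hfs ht1 ht2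
    (f := fun t u w => ψ.comp (lin (acRep φ) (Data.U K (3 ^ l) t u w)))
    (w := fun t u w => lin (acRep φ) (Data.N c * Data.U K (3 ^ l) t u w * Data.N c) v)
    (by rw [← ht]; exact hker) with h4 | h4
  · rw [hfr] at h4
    exact Or.inl h4
  · right
    rw [hfr, hK, ← hfs] at h4
    have h6 : 3 ^ s ≤ 3 ^ ((f : ℕ) * s) := Nat.pow_le_pow_right (by norm_num) (Nat.le_mul_of_pos_left _ f.pos)
    omega

end

section ownree

variable {Q : Type} [Group Q] [Finite Q] {A : Subgroup Q} {Γ : Subgroup (MulAut Q)} {ι : Type} [Fintype ι]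
    [DecidableEq ι] {F : Type} [Field F] [Fintype F] {S P : Subgroup (GL ι F)}

/-- `|Aut Ree(K)| ≤ |K| ^ 8` -/
theorem ree_aut {X : Type u} [Group X] (hna : ¬ IsMulCommutative X) (hX : IsSimpleGroup X) {K : Type v} [Field K]
    [Fintype K] {l : ℕ} (hl : 1 ≤ l) (hK : Fintype.card K = 3 ^ (2 * l + 1)) (e : X ≃* ↥(twistedG2 K (3 ^ l))) :
    Nat.card (MulAut X) ≤ (3 ^ (2 * l + 1)) ^ 8 := by
  have h1 := Cfsg.Agent.LieRecognition.ReeFinal.card hK
  have hs : IsSimpleGroup ↥(twistedG2 K (3 ^ l)) := e.symm.isSimpleGroup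
  have hq3 : 3 ≤ 3 ^ (2 * l + 1) := by
    calc 3 = 3 ^ 1 := rfl
      _ ≤ _ := Nat.pow_le_pow_right (by norm_num) (by omega)
  have hfin : Finite ↥(twistedG2 K (3 ^ l)) := Nat.finite_of_card_ne_zero (by
    rw [h1]
    have h3 : 3 ^ (2 * l + 1) - 1 ≠ 0 := by omega
    positivity)
  rw [card_aut hna e, S2127.result hl hK, h1]
  obtain ⟨q, hq⟩ : ∃ q, q = 3 ^ (2 * l + 1) := ⟨_, rfl⟩
  have h2 : 2 * l + 1 ≤ q := by rw [hq]; exact (Nat.lt_pow_self (by norm_num)).le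
  rw [← hq] at hq3 ⊢
  have h3 : (q - 1) * (q ^ 3 + 1) ≤ q ^ 4 := by
    obtain ⟨c, rfl⟩ : ∃ c, q = c + 1 := ⟨q - 1, by omega⟩
    rw [Nat.add_sub_cancel]
    have : (c + 1) ^ 4 = c * ((c + 1) ^ 3 + 1) + (c + 1) ^ 3 - c := by
      have h4 : c ≤ (c + 1) ^ 3 := (Nat.le_succ c).trans (Nat.le_self_pow (by norm_num) _)
      have h5 : (c + 1) ^ 4 + c = c * ((c + 1) ^ 3 + 1) + (c + 1) ^ 3 := by ring
      omega
    have h4 : c ≤ (c + 1) ^ 3 := (Nat.le_succ c).trans (Nat.le_self_pow (by norm_num) _)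
    omega
  calc (2 * l + 1) * (q ^ 3 * (q - 1) * (q ^ 3 + 1)) = (2 * l + 1) * (q ^ 3 * ((q - 1) * (q ^ 3 + 1))) := by ring
    _ ≤ q * (q ^ 3 * q ^ 4) := Nat.mul_le_mul h2 (Nat.mul_le_mul_left _ h3)
    _ = q ^ 8 := by ring

/-- **Ree groups, own characteristic.** -/
theorem own_ree {c : ℕ} (b : Big A Γ S P) (hc9 : c ≤ 9) (hUB : Nat.card Q ≤ Nat.card A ^ c)
    (hc : ringChar F = 3) (h : Lie.IsoRee (socle P)) : False := by
  obtain ⟨K, _, _, l, hl, hK, ⟨e⟩⟩ := h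
  have := charP_of_ringChar hc
  obtain ⟨s, hFs, h4⟩ := ree_deg (core_of_residual b.core) hl hK e
  have h1 := ree_aut b.core.nonabelian b.core.simple hl hK e
  have h2 : Nat.card (MulAut (socle P)) ^ c ≤ Fintype.card F ^ (8 * s * c) := by
    calc Nat.card (MulAut (socle P)) ^ c ≤ ((3 ^ (2 * l + 1)) ^ 8) ^ c := Nat.pow_le_pow_left h1 c
      _ = Fintype.card F ^ (8 * s * c) := by
        rw [← hFs, Nat.card_eq_fintype_card, ← pow_mul, ← pow_mul]
        congr 1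
        ring
  have h3 := le_of_big b hUB h2
  have h13 := b.thirteen
  have h3' : 8 * s * c ≤ 72 * s := by
    calc 8 * s * c ≤ 8 * s * 9 := Nat.mul_le_mul_left _ hc9
      _ = 72 * s := by ring
  rcases h4 with rfl | ⟨hs3, h4⟩
  · have := tri_mono h13
    norm_num at this
    omega
  · have h8 : ∀ s : ℕ, 3 ≤ s → 8 * s + 3 ≤ 3 ^ s := by
      intro s hs
      induction s, hs using Nat.le_induction with
      | base => norm_num
      | succ s hs ih => rw [pow_succ]; omega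
    have h9 : 8 * s + 1 ≤ Fintype.card ι := by
      have := h8 s hs3
      have h10 : 3 ^ s ≤ 4 ^ s := Nat.pow_le_pow_left (by norm_num) s
      omega
    have h5 := tri_mono h9
    have h6 : (8 * s + 1) * (8 * s + 1 - 1) / 2 = (8 * s + 1) * (4 * s) := by
      rw [Nat.add_sub_cancel, show (8 * s + 1) * (8 * s) = 2 * ((8 * s + 1) * (4 * s)) by ring]
      exact Nat.mul_div_cancel_left _ (by norm_num)
    rw [h6] at h5
    obtain ⟨t, rfl⟩ : ∃ t, s = t + 3 := ⟨s - 3, by omega⟩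
    nlinarith

end ownree

end Cfsg.Agent.H270.EP
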